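import Cfsg.Agent.EqLemmas
import Cfsg.Agent.Lib.Coprime.Generation

/-!
# Three involutions, section 2 (d): signed elements (owner: helper87)

A 2-group `S` acts on an odd group `K` through an elementary abelian quotient and centralises the
commutator subgroup of `K`.

* `Signed S y` : every element of `S` fixes or inverts `y`
* `exists_signed` : `K` has a signed element inverted by some element, if `S` does not centralise `K`
* `comm_of_differ` : signed elements with different kernels commute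
* `triple_eq_one` : signed elements with three different kernels are independent
-/

set_option autoImplicit false
set_option linter.unusedSectionVars false

namespace Cfsg.Agent.Goldschmidt.ThreeInv.CoreCent

open Subgroup
open scoped commutatorElement

universe u

variable {G : Type u} [Group G]

/-- Every element of `S` fixes or inverts `y`. -/
def Signed (S : Subgroup G) (y : G) : Prop :=
  ∀ t ∈ S, MulAut.conj t y = y ∨ MulAut.conj t y = y⁻¹

/-- Some element of `S` fixes one and inverts the other. -/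
def Differ (S : Subgroup G) (y z : G) : Prop :=
  ∃ t ∈ S, (MulAut.conj t y = y ∧ MulAut.conj t z = z⁻¹) ∨ (MulAut.conj t z = z ∧ MulAut.conj t y = y⁻¹)

variable {S K : Subgroup G}

theorem Differ.symm {y z : G} (h : Differ S y z) : Differ S z y := by
  obtain ⟨t, ht, h⟩ := h
  exact ⟨t, ht, h.symm⟩

theorem Signed.pow {y : G} (h : Signed S y) (n : ℕ) : Signed S (y ^ n) := fun t ht => by
  rcases h t ht with e | e
  · exact Or.inl (by rw [map_pow, e])
  · exact Or.inr (by rw [map_pow, e, inv_pow])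

theorem Differ.pow {y z : G} (h : Differ S y z) (m n : ℕ) : Differ S (y ^ m) (z ^ n) := by
  obtain ⟨t, ht, ⟨e, e'⟩ | ⟨e, e'⟩⟩ := h
  · exact ⟨t, ht, Or.inl ⟨by rw [map_pow, e], by rw [map_pow, e', inv_pow]⟩⟩
  · exact ⟨t, ht, Or.inr ⟨by rw [map_pow, e], by rw [map_pow, e', inv_pow]⟩⟩

theorem eq_one_of_eq_inv {c : G} (ho : Odd (orderOf c)) (h : c = c⁻¹) : c = 1 := by
  obtain ⟨m, hm⟩ := ho
  have h2 : c * c = 1 := mul_eq_one_iff_eq_inv.2 h
  have h3 := pow_orderOf_eq_one c
  rwa [hm, pow_succ, pow_mul, pow_two, h2, one_pow, one_mul] at h3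

/-- Signed elements with different kernels multiply to `1` only if both are trivial. -/
theorem Differ.eq_one {y z : G} (h : Differ S y z) (hyo : Odd (orderOf y)) (e : y * z = 1) :
    y = 1 ∧ z = 1 := by
  have hz : z = y⁻¹ := eq_inv_of_mul_eq_one_right e
  obtain ⟨t, -, ⟨e1, e2⟩ | ⟨e1, e2⟩⟩ := h
  · rw [hz, map_inv, e1, inv_inv] at e2
    have h1 := eq_one_of_eq_inv hyo e2.symm
    exact ⟨h1, by rw [hz, h1, inv_one]⟩
  · rw [hz, map_inv, e2, inv_inv] at e1
    have h1 := eq_one_of_eq_inv hyo e1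
    exact ⟨h1, by rw [hz, h1, inv_one]⟩

/-- Three commuting signed elements with different kernels are independent. -/
theorem triple_eq_one {x y z : G} (hz : Signed S z) (hxy : Differ S x y) (hxz : Differ S x z)
    (hyz : Differ S y z) (hxo : Odd (orderOf x)) (hyo : Odd (orderOf y))
    (cxy : Commute x y) (cxz : Commute x z) (cyz : Commute y z) (e : x * y * z = 1) :
    x = 1 ∧ y = 1 ∧ z = 1 := by
  -- `t` fixes one of `x`, `y` and inverts the other
  have key : ∀ u v : G, Commute u v → Commute u z → Commute v z → Differ S u z → Odd (orderOf u) →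
      Odd (orderOf v) → u * v * z = 1 → ∀ t ∈ S, MulAut.conj t u = u → MulAut.conj t v = v⁻¹ →
      MulAut.conj t z = z → v = 1 ∧ u = 1 ∧ z = 1 := by
    intro u v cuv _ cvz huz huo hvo e t _ hu hv hz
    have e1 := congrArg (MulAut.conj t) e
    rw [map_mul, map_mul, hu, hv, hz, map_one] at e1
    have hv1 : v = 1 := by
      refine eq_one_of_eq_inv hvo ?_
      have h : u * v * z = u * v⁻¹ * z := e.trans e1.symm
      exact mul_left_cancel (mul_right_cancel h)
    rw [hv1, mul_one] at e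
    exact ⟨hv1, huz.eq_one huo e⟩
  have key' : ∀ u v : G, Commute u v → Commute u z → Commute v z → Differ S v z → Odd (orderOf u) →
      Odd (orderOf v) → u * v * z = 1 → ∀ t ∈ S, MulAut.conj t u = u → MulAut.conj t v = v⁻¹ →
      MulAut.conj t z = z⁻¹ → u = 1 ∧ v = 1 ∧ z = 1 := by
    intro u v cuv cuz cvz hvz huo hvo e t _ hu hv hz
    have e1 := congrArg (MulAut.conj t) e
    rw [map_mul, map_mul, hu, hv, hz, map_one, mul_assoc, ← mul_inv_rev, mul_inv_eq_one] at e1
    rw [mul_assoc] at e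
    have hu1 : u = 1 := by
      refine eq_one_of_eq_inv huo ?_
      calc u = z * v := e1
        _ = v * z := cvz.eq.symm
        _ = u⁻¹ := eq_inv_of_mul_eq_one_right e
    rw [hu1, one_mul] at e
    exact ⟨hu1, hvz.eq_one hvo e⟩
  obtain ⟨t, ht, ⟨e1, e2⟩ | ⟨e1, e2⟩⟩ := hxy
  · rcases hz t ht with e3 | e3
    · obtain ⟨a, b, c⟩ := key x y cxy cxz cyz hxz hxo hyo e t ht e1 e2 e3
      exact ⟨b, a, c⟩
    · exact key' x y cxy cxz cyz hyz hxo hyo e t ht e1 e2 e3
  · have e' : y * x * z = 1 := by rw [← cxy.eq]; exact e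
    rcases hz t ht with e3 | e3
    · exact key y x cxy.symm cyz cxz hyz hyo hxo e' t ht e1 e2 e3
    · obtain ⟨a, b, c⟩ := key' y x cxy.symm cyz cxz hxz hyo hxo e' t ht e1 e2 e3
      exact ⟨b, a, c⟩

section Action

variable (hSK : S ≤ normalizer (K : Set G)) (hK : Odd (Nat.card K))
  (hder : ∀ c ∈ ⁅K, K⁆, ∀ s ∈ S, MulAut.conj s c = c)

include hK hder

/-- An element of `S` exchanging two elements of `K` makes them commute. -/
theorem comm_of_swap {y z t : G} (hy : y ∈ K) (hz : z ∈ K) (ht : t ∈ S) (h1 : MulAut.conj t y = z)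
    (h2 : MulAut.conj t z = y) : Commute y z := by
  have hc : ⁅y, z⁆ ∈ ⁅K, K⁆ := commutator_mem_commutator hy hz
  have e := hder _ hc t ht
  rw [map_commutatorElement, h1, h2, ← commutatorElement_inv] at e
  exact commutatorElement_eq_one_iff_mul_comm.1 (eq_one_of_eq_inv
    (hK.of_dvd_nat (Subgroup.orderOf_dvd_natCard _ (commutator_le.2
      (fun a ha b hb => by
        rw [commutatorElement_def]
        exact K.mul_mem (K.mul_mem (K.mul_mem ha hb) (K.inv_mem ha)) (K.inv_mem hb)) hc))) e.symm)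

/-- Signed elements of `K` with different kernels commute. -/
theorem comm_of_differ {y z : G} (hy : y ∈ K) (hz : z ∈ K) (hd : Differ S y z)
    (hzi : ∃ s ∈ S, MulAut.conj s z = z⁻¹) (hyi : ∃ s ∈ S, MulAut.conj s y = y⁻¹) : Commute y z := by
  -- an inverted element centralises the commutator subgroup
  have hcen : ∀ w ∈ K, (∃ s ∈ S, MulAut.conj s w = w⁻¹) → ∀ c ∈ ⁅K, K⁆, Commute w c := by
    rintro w hw ⟨s, hs, hsw⟩ c hc
    have hn : w * c * w⁻¹ ∈ ⁅K, K⁆ := by
      rw [show w * c * w⁻¹ = ⁅w, c⁆ * c by rw [commutatorElement_def]; group]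
      exact mul_mem (commutator_mem_commutator hw (commutator_le.2 (fun a ha b hb => by
        rw [commutatorElement_def]
        exact K.mul_mem (K.mul_mem (K.mul_mem ha hb) (K.inv_mem ha)) (K.inv_mem hb)) hc)) hc
    have e := hder _ hn s hs
    rw [map_mul, map_mul, map_inv, hsw, hder c hc s hs, inv_inv] at e
    have h2 : Commute (w * w) c := by
      calc w * w * c = w * (w * c * w⁻¹) * w := by group
        _ = c * (w * w) := by rw [← e]; group
    obtain ⟨k, hk⟩ := hK.of_dvd_nat (Subgroup.orderOf_dvd_natCard _ hw)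
    have h3 : (w * w) ^ (k + 1) = w := by
      rw [← pow_two, ← pow_mul, show 2 * (k + 1) = orderOf w + 1 by omega, pow_succ, pow_orderOf_eq_one,
        one_mul]
    exact h3 ▸ h2.pow_left (k + 1)
  have key : ∀ u ∈ K, ∀ v ∈ K, (∃ s ∈ S, MulAut.conj s v = v⁻¹) → ∀ t ∈ S, MulAut.conj t u = u →
      MulAut.conj t v = v⁻¹ → Commute u v := by
    intro u hu v hv hvi t ht hu' hv'
    have hc : ⁅u, v⁆ ∈ ⁅K, K⁆ := commutator_mem_commutator hu hv
    have e := hder _ hc t ht
    rw [map_commutatorElement, hu', hv'] at e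
    have hvc : Commute v ⁅u, v⁆ := hcen v hv hvi _ hc
    have e2 : ⁅u, v⁻¹⁆ = ⁅u, v⁆⁻¹ := by
      calc ⁅u, v⁻¹⁆ = v⁻¹ * (⁅u, v⁆⁻¹ * v) := by simp only [commutatorElement_def]; group
        _ = ⁅u, v⁆⁻¹ := by rw [← hvc.inv_right.eq, inv_mul_cancel_left]
    exact commutatorElement_eq_one_iff_mul_comm.1 (eq_one_of_eq_inv
      (hK.of_dvd_nat (Subgroup.orderOf_dvd_natCard _ (commutator_le.2
        (fun a ha b hb => by
          rw [commutatorElement_def]
          exact K.mul_mem (K.mul_mem (K.mul_mem ha hb) (K.inv_mem ha)) (K.inv_mem hb)) hc)))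
      (e.symm.trans e2))
  obtain ⟨t, ht, ⟨e, e'⟩ | ⟨e, e'⟩⟩ := hd
  · exact key y hy z hz hzi t ht e e'
  · exact (key z hz y hy hyi t ht e e').symm

include hSK

/-- A signed element inverted by an element of `S`, if `S` moves an element of `K`. -/
theorem exists_signed [Finite G] (hsq : ∀ s ∈ S, ∀ x ∈ K, MulAut.conj s (MulAut.conj s x) = x)
    (hcomm : ∀ s ∈ S, ∀ t ∈ S, ∀ x ∈ K,
      MulAut.conj s (MulAut.conj t x) = MulAut.conj t (MulAut.conj s x))
    {s x : G} (hs : s ∈ S) (hx : x ∈ K) (hsx : MulAut.conj s x ≠ x) :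
    ∃ y ∈ K, y ≠ 1 ∧ Signed S y ∧ ∃ s' ∈ S, MulAut.conj s' y = y⁻¹ := by
  classical
  have hmem : ∀ t ∈ S, ∀ y ∈ K, MulAut.conj t y ∈ K := fun t ht y hy =>
    (mem_normalizer_iff.1 (hSK ht) y).1 hy
  set P : G → Set G := fun y => {t | t ∈ S ∧ (MulAut.conj t y = y ∨ MulAut.conj t y = y⁻¹)}
  obtain ⟨y, ⟨hy, hy1, si, hsi, hyi⟩, hmax⟩ := Set.exists_max_image
    {y : G | y ∈ K ∧ y ≠ 1 ∧ ∃ s' ∈ S, MulAut.conj s' y = y⁻¹} (fun y => (P y).ncard) (Set.toFinite _)
    ⟨x⁻¹ * MulAut.conj s x, K.mul_mem (K.inv_mem hx) (hmem s hs x hx),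
      fun e => hsx (inv_mul_eq_one.1 e).symm, s, hs, by rw [map_mul, map_inv, hsq s hs x hx, mul_inv_rev, inv_inv]⟩
  refine ⟨y, hy, hy1, ?_, si, hsi, hyi⟩
  intro t ht
  by_contra hno
  push Not at hno
  set z := MulAut.conj t y
  have hz : z ∈ K := hmem t ht y hy
  have htz : MulAut.conj t z = y := hsq t ht y hy
  have hc : Commute y z := comm_of_swap hK hder hy hz ht rfl htz
  have hu1 : y * z ≠ 1 := fun e => hno.2 (eq_inv_of_mul_eq_one_right e)
  have hsz : MulAut.conj si z = z⁻¹ := by rw [hcomm si hsi t ht y hy, hyi, map_inv]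
  have hui : MulAut.conj si (y * z) = (y * z)⁻¹ := by
    rw [map_mul, hyi, hsz, mul_inv_rev, (hc.inv_inv).eq]
  have hsub : P y ⊂ P (y * z) := by
    refine Set.ssubset_iff_subset_ne.2 ⟨?_, fun e => ?_⟩
    · rintro p ⟨hp, e | e⟩
      · exact ⟨hp, Or.inl (by rw [map_mul, e, hcomm p hp t ht y hy, e])⟩
      · exact ⟨hp, Or.inr (by rw [map_mul, e, hcomm p hp t ht y hy, e, map_inv, mul_inv_rev,
          (hc.inv_inv).eq])⟩
    · have h1 : t ∈ P (y * z) := ⟨ht, Or.inl (by rw [map_mul, htz]; exact hc.eq.symm)⟩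
      rw [← e] at h1
      rcases h1.2 with h2 | h2
      · exact hno.1 h2
      · exact hno.2 h2
  exact absurd (hmax (y * z) ⟨K.mul_mem hy hz, hu1, si, hsi, hui⟩)
    (not_le.2 (Set.ncard_lt_ncard hsub (Set.toFinite _)))

end Action

end Cfsg.Agent.Goldschmidt.ThreeInv.CoreCent
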